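import Groth.Agent.QsNormLib.PtNorm

/-!
# The index of the norm subgroup of a point, prime power case
-/

set_option autoImplicit false
set_option backward.isDefEq.respectTransparency false
set_option backward.isDefEq.respectTransparency.types false

universe u

open CategoryTheory AlgebraicGeometry

noncomputable section

namespace Groth.Agent.QsNormLib

theorem ptNormSubgroup_index (k : Type u) [Field k] (K : Type u) [Field K] [Algebra k K]
    (L : IntermediateField k K) [FiniteDimensional k L] [IsGalois k L]
    (p n : ℕ) (hp : p.Prime) (hn : 1 ≤ n) (hL : Module.finrank k L = p ^ n)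
    (hF : ∀ F : IntermediateField k K, FiniteDimensional k F → ∃ e : ℕ, Module.finrank k F = p ^ e) :
    (QsChow.ptNormSubgroup k K).index = p := by
  classical
  haveI := Fact.mk hp
  let S := Spec (CommRingCat.of k)
  let x₀ : S := default
  let ev₀ : ↥(ChowOps.zk S (fun _ => 0) 0) →+ ℤ := AddMonoidHom.mk' (fun α => α.1 x₀) fun _ _ => rfl
  let ev : ChowOps.CH S (fun _ => 0) 0 →+ ℤ := QuotientAddGroup.lift (ChowOps.ratTriv S _ 0) ev₀ (by
    refine (AddSubgroup.closure_le _).2 fun a ⟨ι, ξ, f, h1, _, _, h4⟩ => ?_
    haveI : IsEmpty ι := ⟨fun i => absurd (h1 i) (by norm_num)⟩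
    refine AddMonoidHom.mem_ker.2 ((h4 x₀).trans ?_)
    exact finsum_of_isEmpty _)
  have hev : ∀ (α : AlgebraicCycle S ℤ) (h : α ∈ Cyc.Zk S (fun _ => 0) 0), ev (ChowOps.cl α h) = α x₀ :=
    fun α h => rfl
  have hinj : Function.Injective ev := by
    intro a b hab
    obtain ⟨⟨α, hα⟩, rfl⟩ := QuotientAddGroup.mk'_surjective (ChowOps.ratTriv S (fun _ => 0) 0) a
    obtain ⟨⟨β, hβ⟩, rfl⟩ := QuotientAddGroup.mk'_surjective (ChowOps.ratTriv S (fun _ => 0) 0) b
    refine congrArg _ (Subtype.ext (Function.locallyFinsuppWithin.ext fun y => ?_))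
    rw [Subsingleton.elim y x₀]
    exact hab
  have hsurj : Function.Surjective ev := fun m =>
    ⟨ChowOps.cl (Function.locallyFinsuppWithin.single x₀ m) (fun x h => absurd rfl h),
      (hev _ _).trans (by rw [Function.locallyFinsuppWithin.single_apply, if_pos rfl])⟩
  have hpush : ∀ (F : IntermediateField k K) (α : AlgebraicCycle (Spec (CommRingCat.of (F : Type u))) ℤ),
      AlgebraicCycle.map (Spec.map (CommRingCat.ofHom (algebraMap k F))) (fun _ => (0 : ℤ)) (fun _ => (0 : ℤ)) α x₀ =
        α default * (Module.finrank k F : ℤ) := by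
    intro F α
    let q := Spec.map (CommRingCat.ofHom (algebraMap k F))
    show Function.locallyFinsupp.map q _ q.isSpectralMap α x₀ = _
    rw [Function.locallyFinsupp.map_apply, show ⇑q ⁻¹' {x₀} = {(default : Spec (CommRingCat.of (F : Type u)))} from
      Set.eq_singleton_iff_unique_mem.2 ⟨Subsingleton.elim _ _, fun _ _ => Subsingleton.elim _ _⟩,
      finsum_mem_singleton, AlgebraicCycle.mapCoeff, if_pos rfl, residueDegree_spec]
  have heq : QsChow.ptNormSubgroup k K = (AddSubgroup.zmultiples (p : ℤ)).comap ev := by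
    refine le_antisymm ((AddSubgroup.closure_le _).2 ?_) ?_
    · rintro c ⟨F, hFf, hFb, α, h, rfl⟩
      obtain ⟨e, he⟩ := hF F hFf
      have he0 : e ≠ 0 := fun h0 => hFb (IntermediateField.finrank_eq_one_iff.1 (by rw [he, h0, pow_zero]))
      refine Int.mem_zmultiples_iff.2 ?_
      rw [hev, hpush, he, Nat.cast_pow]
      exact Dvd.dvd.mul_left (dvd_pow_self _ he0) _
    · intro c hc
      obtain ⟨m, hm⟩ := Int.mem_zmultiples_iff.1 hc
      obtain ⟨n, rfl⟩ : ∃ n', n = n' + 1 := ⟨n - 1, by omega⟩
      have hcard : Nat.card (L ≃ₐ[k] L) = p ^ (n + 1) := (IsGalois.card_aut_eq_finrank k L).trans hL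
      obtain ⟨H, hH⟩ := Sylow.exists_subgroup_card_pow_prime p
        (show p ^ n ∣ Nat.card (L ≃ₐ[k] L) by rw [hcard]; exact pow_dvd_pow _ n.le_succ)
      let M : IntermediateField k L := IntermediateField.fixedField H
      have hM : Module.finrank k M = p := by
        have h1 : Module.finrank M L = p ^ n := (IntermediateField.finrank_fixedField_eq_card H).trans hH
        refine Nat.eq_of_mul_eq_mul_right (pow_pos hp.pos n) ?_
        rw [← h1, Module.finrank_mul_finrank, hL, h1, pow_succ']
      let F : IntermediateField k K := IntermediateField.lift M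
      let eM : M ≃ₐ[k] F := IntermediateField.liftAlgEquiv M
      haveI : FiniteDimensional k F := eM.toLinearEquiv.finiteDimensional
      have hFb : F ≠ ⊥ := fun hb => hp.one_lt.ne' (by
        rw [← hM, eM.toLinearEquiv.finrank_eq]; exact IntermediateField.finrank_eq_one_iff.2 hb)
      refine AddSubgroup.subset_closure ⟨F, inferInstance, hFb,
        Function.locallyFinsuppWithin.single (default : Spec (CommRingCat.of (F : Type u))) m,
        fun x h => absurd rfl h, ?_⟩
      refine hinj ?_
      rw [hev, hpush, Function.locallyFinsuppWithin.single_apply, if_pos rfl, hm, ← eM.toLinearEquiv.finrank_eq, hM,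
        mul_comm]
  rw [heq, AddSubgroup.index_comap_of_surjective _ hsurj, Int.index_zmultiples, Int.natAbs_natCast]

end Groth.Agent.QsNormLib
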