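import Groth.Prelude.Def_W4c4chowquasisplitNorm
import Mathlib.GroupTheory.Sylow
import Mathlib.GroupTheory.Archimedean
import Mathlib.FieldTheory.Galois.Basic
import Mathlib.NumberTheory.Padics.PadicVal.Basic

/-!
# The norm subgroup of a point
-/

set_option autoImplicit false
set_option backward.isDefEq.respectTransparency false
set_option backward.isDefEq.respectTransparency.types false

universe u

open CategoryTheory AlgebraicGeometry

noncomputable section

namespace Groth.Agent.QsNormLib

/-- A field to the residue field of its point. -/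
def toRes (F : Type u) [Field F] (x : Spec (CommRingCat.of F)) :
    CommRingCat.of F ⟶ (Spec (CommRingCat.of F)).residueField x :=
  CommRingCat.ofHom (algebraMap F _) ≫ (Scheme.Spec.residueFieldIso (CommRingCat.of F) x).inv

theorem bijective_toRes (F : Type u) [Field F] (x : Spec (CommRingCat.of F)) : Function.Bijective (toRes F x) := by
  refine (ConcreteCategory.bijective_of_isIso (Scheme.Spec.residueFieldIso (CommRingCat.of F) x).inv).comp ?_
  refine ⟨(algebraMap F x.asIdeal.ResidueField).injective, fun z => ?_⟩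
  obtain ⟨a, b, hb, rfl⟩ := IsFractionRing.div_surjective (A := F ⧸ x.asIdeal) z
  obtain ⟨a, rfl⟩ := Ideal.Quotient.mk_surjective a
  obtain ⟨b, rfl⟩ := Ideal.Quotient.mk_surjective b
  exact ⟨a / b, map_div₀ _ _ _⟩

theorem toRes_eq (F : Type u) [Field F] (x : Spec (CommRingCat.of F)) :
    toRes F x = (Scheme.ΓSpecIso (CommRingCat.of F)).inv ≫ (Spec (CommRingCat.of F)).presheaf.germ ⊤ x trivial ≫
      (Spec (CommRingCat.of F)).residue x :=
  Scheme.Spec.algebraMap_residueFieldIso_inv _ _

theorem toRes_map {k F : Type u} [Field k] [Field F] (a : k →+* F) (x : Spec (CommRingCat.of F)) :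
    toRes k ((Spec.map (CommRingCat.ofHom a)) x) ≫ (Spec.map (CommRingCat.ofHom a)).residueFieldMap x =
      CommRingCat.ofHom a ≫ toRes F x := by
  rw [toRes_eq, toRes_eq, Category.assoc, Category.assoc, Scheme.residue_residueFieldMap,
    Scheme.Hom.germ_stalkMap_assoc, ← Scheme.ΓSpecIso_inv_naturality_assoc]
  rfl

theorem residueDegree_spec {k F : Type u} [Field k] [Field F] [Algebra k F] (x : Spec (CommRingCat.of F)) :
    (Spec.map (CommRingCat.ofHom (algebraMap k F))).residueDegree x = Module.finrank k F := by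
  let p := Spec.map (CommRingCat.ofHom (algebraMap k F))
  letI := (p.residueFieldMap x).hom.toAlgebra
  show Module.finrank ((Spec (CommRingCat.of k)).residueField (p x)) ((Spec (CommRingCat.of F)).residueField x) = _
  refine (Algebra.finrank_eq_of_equiv_equiv (RingEquiv.ofBijective (toRes k (p x)).hom (bijective_toRes k _))
    (RingEquiv.ofBijective (toRes F x).hom (bijective_toRes F x)) ?_).symm
  exact congrArg CommRingCat.Hom.hom (toRes_map (algebraMap k F) x)

theorem ptNormSubgroup_eq_top (k : Type u) [Field k] (K : Type u) [Field K] [Algebra k K]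
    (L : IntermediateField k K) [FiniteDimensional k L] [IsGalois k L]
    (hL : ∀ p n : ℕ, p.Prime → Module.finrank k L ≠ p ^ n) :
    QsChow.ptNormSubgroup k K = ⊤ := by
  classical
  let S := Spec (CommRingCat.of k)
  let H := QsChow.ptNormSubgroup k K
  have hz : ∀ α : AlgebraicCycle S ℤ, α ∈ Cyc.Zk S (fun _ => 0) 0 := fun α x h => absurd rfl h
  let x₀ : S := default
  let e : ℤ → ChowOps.CH S (fun _ => 0) 0 := fun m =>
    ChowOps.cl (Function.locallyFinsuppWithin.single x₀ m) (hz _)
  have hall : ∀ (α : AlgebraicCycle S ℤ) (h : α ∈ Cyc.Zk S (fun _ => 0) 0), ChowOps.cl α h = e (α x₀) := fun α h => by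
    refine congrArg (ChowOps.clHom S _ 0) (Subtype.ext (Function.locallyFinsuppWithin.ext fun y => ?_))
    show α y = Function.locallyFinsuppWithin.single x₀ (α x₀) y
    rw [Function.locallyFinsuppWithin.single_apply, if_pos (Subsingleton.elim _ _), Subsingleton.elim y x₀]
  have hadd : ∀ a b, e (a + b) = e a + e b := fun a b => by
    refine (congrArg (ChowOps.clHom S _ 0) (Subtype.ext (Function.locallyFinsuppWithin.ext fun y => ?_))).trans
      ((ChowOps.clHom S _ 0).map_add _ _)
    show Function.locallyFinsuppWithin.single x₀ (a + b) y = (_ + _ : AlgebraicCycle S ℤ) y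
    rw [Function.locallyFinsuppWithin.coe_add, Pi.add_apply]
    simp only [Function.locallyFinsuppWithin.single_apply]
    split <;> simp
  let E : ℤ →+ ChowOps.CH S (fun _ => 0) 0 := AddMonoidHom.mk' e hadd
  let T : AddSubgroup ℤ := H.comap E
  have hmem : ∀ M : IntermediateField k L, M ≠ ⊥ → (Module.finrank k M : ℤ) ∈ T := fun M hM => by
    let F : IntermediateField k K := IntermediateField.lift M
    let eM : M ≃ₐ[k] F := IntermediateField.liftAlgEquiv M
    haveI : FiniteDimensional k F := eM.toLinearEquiv.finiteDimensional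
    have hF : F ≠ ⊥ := fun hb => hM (by
      apply IntermediateField.finrank_eq_one_iff.1
      rw [eM.toLinearEquiv.finrank_eq]
      exact IntermediateField.finrank_eq_one_iff.2 hb)
    let p := Spec.map (CommRingCat.ofHom (algebraMap k F))
    let y₀ : Spec (CommRingCat.of (F : Type u)) := default
    refine AddSubgroup.subset_closure ⟨F, inferInstance, hF, Function.locallyFinsuppWithin.single y₀ 1, hz _, ?_⟩
    refine Eq.trans ?_ (hall _ _).symm
    refine congrArg e ?_
    show _ = Function.locallyFinsupp.map p _ p.isSpectralMap (Function.locallyFinsuppWithin.single y₀ 1) x₀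
    rw [Function.locallyFinsupp.map_apply, show ⇑p ⁻¹' {x₀} = {y₀} from
      Set.eq_singleton_iff_unique_mem.2 ⟨Subsingleton.elim _ _, fun _ _ => Subsingleton.elim _ _⟩, finsum_mem_singleton,
      Function.locallyFinsuppWithin.single_apply, if_pos rfl, one_mul, AlgebraicCycle.mapCoeff, if_pos rfl,
      residueDegree_spec, eM.toLinearEquiv.finrank_eq]
  obtain ⟨g, hg⟩ := Int.subgroup_cyclic T
  have hdvd : ∀ M : IntermediateField k L, M ≠ ⊥ → g.natAbs ∣ Module.finrank k M := fun M hM => by
    have := hmem M hM
    rw [hg, AddSubgroup.mem_closure_singleton] at this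
    obtain ⟨m, hm⟩ := this
    exact Int.natCast_dvd_natCast.1 (Int.natAbs_dvd.2 ⟨m, by rw [← hm, zsmul_eq_mul, mul_comm]; rfl⟩)
  have hg1 : g.natAbs = 1 := by
    by_contra hne
    obtain ⟨p, hp, hpg⟩ := Nat.exists_prime_and_dvd hne
    haveI := Fact.mk hp
    let P : Sylow p (L ≃ₐ[k] L) := default
    let M : IntermediateField k L := IntermediateField.fixedField (P : Subgroup (L ≃ₐ[k] L))
    have hP : Module.finrank M L = Nat.card (P : Subgroup (L ≃ₐ[k] L)) :=
      IntermediateField.finrank_fixedField_eq_card _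
    have hM : Module.finrank k M = (P : Subgroup (L ≃ₐ[k] L)).index := by
      refine Nat.eq_of_mul_eq_mul_right (Module.finrank_pos : 0 < Module.finrank M L) ?_
      rw [Module.finrank_mul_finrank, hP, Subgroup.index_mul_card, IsGalois.card_aut_eq_finrank]
    have hne' : M ≠ ⊥ := fun hb => by
      have h1 : Module.finrank k M = 1 := IntermediateField.finrank_eq_one_iff.2 hb
      obtain ⟨n, hn⟩ := IsPGroup.iff_card.1 P.isPGroup'
      refine hL p n hp ?_
      rw [← Module.finrank_mul_finrank k M L, h1, one_mul, hP, hn]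
    exact P.not_dvd_index (hM ▸ hpg.trans (hdvd M hne'))
  have h1 : (1 : ℤ) ∈ T := by
    rw [hg, AddSubgroup.mem_closure_singleton]
    rcases Int.natAbs_eq g with h | h <;> rw [hg1] at h
    · exact ⟨1, by rw [h]; rfl⟩
    · exact ⟨-1, by rw [h]; rfl⟩
  refine eq_top_iff.2 fun c _ => ?_
  obtain ⟨⟨α, hα⟩, rfl⟩ := QuotientAddGroup.mk'_surjective (ChowOps.ratTriv S (fun _ => 0) 0) c
  show ChowOps.cl α hα ∈ H
  rw [hall]
  have h2 := H.zsmul_mem h1 (α x₀)
  rwa [show α x₀ • E 1 = E (α x₀) by rw [← map_zsmul, zsmul_eq_mul, mul_one]; rfl] at h2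

end Groth.Agent.QsNormLib
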